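import Cfsg.Agent.Lib.MinimalNonCA.DihedralCase
import Cfsg.Agent.Lib.Chevalley.Homocyclic.Abelian
import Cfsg.Agent.S0949
import Cfsg.Agent.S0483

/-!
Abelian Sylow 2-subgroups of rank two are four groups, and the resulting identification of the
central quotient of a perfect group with abelian centralisers in proper subgroups.
-/

set_option autoImplicit false
set_option linter.style.haveILetI false
set_option linter.unusedSectionVars false

namespace CfsgLib.MinimalNonCA

open Subgroup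

/-- An abelian Sylow 2-subgroup of rank at most two is a four group. -/
theorem klein_of_rank_le_two {G : Type*} [Group G] [Finite G] (P : Sylow 2 G)
    (hO : Cfsg.oddCore G = ⊥) (hZ : Subgroup.center G = ⊥) (hns : ¬ (P : Subgroup G).Normal)
    (hab : ∀ a ∈ (P : Subgroup G), ∀ b ∈ (P : Subgroup G), a * b = b * a)
    (hsmall : ∀ E : Subgroup G, E ≤ (P : Subgroup G) → (∀ e ∈ E, e * e = 1) → Nat.card E < 8) :
    Nat.card (P : Subgroup G) = 4 ∧ ∀ a ∈ (P : Subgroup G), a * a = 1 := by
  classical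
  haveI : Fact (Nat.Prime 2) := ⟨Nat.prime_two⟩
  haveI : IsMulCommutative (P : Subgroup G) := ⟨⟨fun a b => Subtype.ext (hab a a.2 b b.2)⟩⟩
  letI : CommGroup (P : Subgroup G) := { (inferInstance : Group (P : Subgroup G)) with
    mul_comm := fun a b => Subtype.ext (hab a a.2 b b.2) }
  -- no involution of `P` is fixed by the normaliser
  have hmove : ∀ v ∈ (P : Subgroup G), orderOf v = 2 →
      ∃ n ∈ Subgroup.normalizer ((P : Subgroup G) : Set G), n * v * n⁻¹ ≠ v := by
    intro v hv hv2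
    by_contra hcon
    push Not at hcon
    have hc := Involutions.mem_center_of_isolated P hv2 (fun g hg => by
      obtain ⟨n, hn, he⟩ := P.conj_eq_normalizer_conj_of_mem v g⁻¹ hv (by rwa [inv_inv])
      rw [inv_inv] at he
      have h1 := hcon n⁻¹ (inv_mem hn)
      rw [inv_inv] at h1
      rw [he, h1]) hO
    rw [hZ, mem_bot] at hc
    rw [hc, orderOf_one] at hv2
    omega
  let Ω : Subgroup (P : Subgroup G) := (powMonoidHom 2 : (P : Subgroup G) →* (P : Subgroup G)).ker
  have hΩ : ∀ a : (P : Subgroup G), a ∈ Ω ↔ a ^ 2 = 1 := fun a => Iff.rfl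
  have hΩ8 : Nat.card Ω < 8 := by
    have h1 := hsmall (Ω.map (P : Subgroup G).subtype) (map_subtype_le _) (by
      rintro _ ⟨a, ha, rfl⟩
      rw [← pow_two, ← map_pow, (hΩ a).1 ha, map_one])
    rwa [Subgroup.card_map_of_injective (P : Subgroup G).subtype_injective] at h1
  let J : ℕ → Subgroup (P : Subgroup G) := fun i =>
    (powMonoidHom (2 ^ i) : (P : Subgroup G) →* (P : Subgroup G)).range
  have hJmem : ∀ i a, a ∈ J i ↔ ∃ b : (P : Subgroup G), b ^ 2 ^ i = a := fun i a => Iff.rfl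
  have hex : ∃ i, J i = ⊥ := by
    obtain ⟨k, hk⟩ := P.isPGroup'.exists_card_eq
    refine ⟨k, (Subgroup.eq_bot_iff_forall _).2 ?_⟩
    rintro a ⟨b, rfl⟩
    show b ^ 2 ^ k = 1
    rw [← hk, pow_card_eq_one']
  have h2P : IsPGroup 2 (P : Subgroup G) := P.isPGroup'
  -- the sections of squaring
  have hfour : ∀ i, J i ≠ ⊥ → Nat.card (Ω ⊓ J i : Subgroup (P : Subgroup G)) = 4 := by
    intro i hi
    set I := Ω ⊓ J i
    obtain ⟨k, hk⟩ := (h2P.to_subgroup I).exists_card_eq
    have hne : Nat.card I ≠ 1 := by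
      intro h1
      obtain ⟨j, hj⟩ := (h2P.to_subgroup (J i)).exists_card_eq
      rcases j with _ | j
      · exact hi (Subgroup.card_eq_one.1 (by simpa using hj))
      obtain ⟨v, hv⟩ := exists_prime_orderOf_dvd_card' (G := J i) 2
        (by rw [hj]; exact dvd_pow_self 2 (Nat.succ_ne_zero j))
      have hv' : (v : (P : Subgroup G)) ∈ I := ⟨(hΩ _).2 (by
        have h2 := pow_orderOf_eq_one v
        rw [hv] at h2
        exact congrArg Subtype.val h2), v.2⟩
      rw [Subgroup.card_eq_one.1 h1, mem_bot] at hv'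
      rw [show v = 1 from Subtype.ext hv', orderOf_one] at hv
      omega
    have hle : Nat.card I < 8 := (Subgroup.card_le_of_le inf_le_left).trans_lt hΩ8
    have hne2 : Nat.card I ≠ 2 := by
      intro h2
      obtain ⟨v, hv⟩ := exists_prime_orderOf_dvd_card' (G := I) 2 (by rw [h2])
      have hv2 : orderOf (((v : (P : Subgroup G)) : G)) = 2 := by
        rw [Subgroup.orderOf_coe, Subgroup.orderOf_coe, hv]
      obtain ⟨n, hn, hnv⟩ := hmove _ (v : (P : Subgroup G)).2 hv2
      apply hnv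
      set w : (P : Subgroup G) :=
        ⟨n * (v : (P : Subgroup G)) * n⁻¹, (Subgroup.mem_normalizer_iff.1 hn _).1 (v : (P : Subgroup G)).2⟩
      have hwI : w ∈ I := by
        refine ⟨(hΩ w).2 (Subtype.ext ?_), ?_⟩
        · show (n * ((v : (P : Subgroup G)) : G) * n⁻¹) ^ 2 = 1
          rw [conj_pow, show ((v : (P : Subgroup G)) : G) ^ 2 = 1 by
              have h2 := pow_orderOf_eq_one ((v : (P : Subgroup G)) : G)
              rwa [hv2] at h2,
            mul_one, mul_inv_cancel]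
        · obtain ⟨b, hb⟩ := (hJmem i _).1 v.2.2
          refine (hJmem i w).2 ⟨⟨n * b * n⁻¹, (Subgroup.mem_normalizer_iff.1 hn _).1 b.2⟩, Subtype.ext ?_⟩
          show (n * (b : G) * n⁻¹) ^ 2 ^ i = n * ((v : (P : Subgroup G)) : G) * n⁻¹
          rw [conj_pow, ← SubmonoidClass.coe_pow, hb]
      have hz : Subgroup.zpowers v = ⊤ :=
        Subgroup.eq_top_of_card_eq _ (by rw [Nat.card_zpowers, hv, h2])
      obtain ⟨j, hj⟩ := mem_zpowers_iff.1 (hz ▸ mem_top (⟨w, hwI⟩ : I))
      rw [← zpow_mod_orderOf, hv] at hj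
      rcases Int.emod_two_eq_zero_or_one j with h | h
      · have h' : j % ((2 : ℕ) : ℤ) = 0 := by exact_mod_cast h
        rw [h', zpow_zero] at hj
        exfalso
        have h1 : (w : G) = 1 := congrArg (fun y : I => ((y : (P : Subgroup G)) : G)) hj.symm
        have h1' : n * ((v : (P : Subgroup G)) : G) * n⁻¹ = 1 := h1
        rw [conj_eq_one_iff] at h1'
        rw [h1', orderOf_one] at hv2
        omega
      · have h' : j % ((2 : ℕ) : ℤ) = 1 := by exact_mod_cast h
        rw [h', zpow_one] at hj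
        exact congrArg (fun y : I => ((y : (P : Subgroup G)) : G)) hj.symm
    rcases k with _ | _ | _ | k
    · exact absurd (hk.trans (pow_zero 2)) hne
    · exact absurd (hk.trans (pow_one 2)) hne2
    · exact hk
    · exfalso
      have : 8 ≤ Nat.card I := by
        rw [hk]; exact le_trans (by norm_num) (Nat.pow_le_pow_right (by norm_num) (show 3 ≤ k + 3 by omega))
      omega
  have hstep : ∀ i, Nat.card (J i) = Nat.card (J (i + 1)) * Nat.card (Ω ⊓ J i : Subgroup (P : Subgroup G)) := by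
    intro i
    let g : J i →* (P : Subgroup G) := (powMonoidHom 2).comp (J i).subtype
    have hr : g.range = J (i + 1) := by
      ext a
      constructor
      · rintro ⟨⟨_, b, rfl⟩, rfl⟩
        exact ⟨b, by show b ^ 2 ^ (i + 1) = (b ^ 2 ^ i) ^ 2; rw [← pow_mul, ← pow_succ]⟩
      · rintro ⟨b, rfl⟩
        exact ⟨⟨b ^ 2 ^ i, b, rfl⟩, by show (b ^ 2 ^ i) ^ 2 = b ^ 2 ^ (i + 1); rw [← pow_mul, ← pow_succ]⟩
    have hk : g.ker = (Ω ⊓ J i).subgroupOf (J i) := by
      ext a
      exact ⟨fun h => ⟨h, a.2⟩, fun h => h.1⟩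
    have h1 := g.ker.index_mul_card
    rw [Subgroup.index_ker, hr, hk,
      Nat.card_congr (Subgroup.subgroupOfEquivOfLe inf_le_right).toEquiv] at h1
    exact h1.symm
  have hJ0 : J 0 = ⊤ := (Subgroup.eq_top_iff' _).2 fun a => ⟨a, by show a ^ 2 ^ 0 = a; simp⟩
  set μ := Nat.find hex with hμd
  have hμ0 : μ ≠ 0 := by
    intro e
    have h1 := Nat.find_spec hex
    rw [← hμd, e, hJ0] at h1
    refine hns ?_
    have h2 : (P : Subgroup G) = ⊥ := (Subgroup.eq_bot_iff_forall _).2 fun x hx =>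
      congrArg Subtype.val ((Subgroup.eq_bot_iff_forall _).1 h1 ⟨x, hx⟩ (mem_top _))
    rw [h2]; infer_instance
  have hcount : ∀ j, j ≤ μ → Nat.card (P : Subgroup G) = Nat.card (J j) * 4 ^ j := by
    intro j
    induction j with
    | zero => intro _; rw [hJ0, Subgroup.card_top, pow_zero, mul_one]
    | succ j ih =>
      intro hj
      rw [ih (by omega), hstep j, hfour j (Nat.find_min hex (by omega)), pow_succ]
      ring
  have hcard : Nat.card (P : Subgroup G) = 4 ^ μ := by
    rw [hcount μ le_rfl, Nat.find_spec hex, Subgroup.card_bot, one_mul]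
  have hexp : ∀ a : (P : Subgroup G), a ^ 2 ^ μ = 1 := fun a =>
    (Subgroup.eq_bot_iff_forall _).1 (Nat.find_spec hex) _ ⟨a, rfl⟩
  have hμ1 : μ = 1 := by
    by_contra hne
    obtain ⟨e⟩ := Chevalley.Homocyclic.homocyclic (P := (P : Subgroup G)) (r := 2) (μ := μ) (a := 2)
      Nat.prime_two (Nat.pos_of_ne_zero hμ0) mul_comm hexp
      (by rw [hcard, show (4 : ℕ) = 2 ^ 2 from rfl, ← pow_mul]) (by
        obtain ⟨k, hk⟩ := (h2P.to_subgroup Ω).exists_card_eq
        have h2 : Nat.card Ω ≤ 2 ^ 2 := by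
          rw [hk] at hΩ8 ⊢
          refine Nat.pow_le_pow_right (by norm_num) ?_
          by_contra h3
          have : 2 ^ 3 ≤ 2 ^ k := Nat.pow_le_pow_right (by norm_num) (by omega)
          omega
        exact le_of_eq_of_le rfl h2)
    let e2 : (Fin 2 → Multiplicative (ZMod (2 ^ μ))) ≃*
        Multiplicative (ZMod (2 ^ μ) × ZMod (2 ^ μ)) :=
      { toFun := fun f => Multiplicative.ofAdd ((f 0).toAdd, (f 1).toAdd)
        invFun := fun x => ![Multiplicative.ofAdd x.toAdd.1, Multiplicative.ofAdd x.toAdd.2]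
        left_inv := fun f => by funext i; fin_cases i <;> rfl
        right_inv := fun x => rfl
        map_mul' := fun f g => rfl }
    have h1 := Cfsg.Agent.S0949.result P μ (by omega) (e.trans e2) fun N hN hodd => by
      have := le_sSup (show N ∈ {N : Subgroup G | N.Normal ∧ (Nat.card N).Coprime 2} from
        ⟨hN, Nat.coprime_two_right.2 hodd⟩)
      exact le_bot_iff.1 (hO ▸ this)
    exact hns h1.1
  refine ⟨by rw [hcard, hμ1, pow_one], fun a ha => ?_⟩
  have := congrArg Subtype.val (hexp ⟨a, ha⟩)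
  rw [hμ1, pow_one] at this
  rwa [← pow_two]

/-- The Gorenstein–Walter theorem. -/
theorem dihedralPerfect {X : Type*} [Group X] [Finite X] (hp : commutator X = ⊤)
    (h : GW.HasDihedralSylow X) (hO : Cfsg.oddCore X = ⊥) : GW.IsGWGroup X := by
  obtain ⟨S, n, hn, e⟩ := h
  haveI : Group.IsPerfect X := ⟨hp⟩
  exact GW.IsGWGroup.of_equiv
    ((QuotientGroup.quotientBot).symm.trans (QuotientGroup.quotientMulEquivOfEq hO.symm))
    (Cfsg.Agent.S0483.result S n hn e)

/-- Some elements of the alternating group of degree seven. -/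
theorem alt_seven_data : ∃ x u v n : alternatingGroup (Fin 7), x ^ 3 = 1 ∧ u ^ 2 = 1 ∧ v ^ 2 = 1 ∧
    x * u = u * x ∧ x * v = v * x ∧ u * v = v * u ∧ n * x * n⁻¹ = x⁻¹ ∧ x ≠ 1 ∧ u ≠ 1 ∧ v ≠ 1 ∧ u ≠ v :=
  ⟨⟨Equiv.swap 0 1 * Equiv.swap 1 2, Equiv.Perm.mem_alternatingGroup.2 (by decide)⟩,
    ⟨Equiv.swap 3 4 * Equiv.swap 5 6, Equiv.Perm.mem_alternatingGroup.2 (by decide)⟩,
    ⟨Equiv.swap 3 5 * Equiv.swap 4 6, Equiv.Perm.mem_alternatingGroup.2 (by decide)⟩,
    ⟨Equiv.swap 0 1 * Equiv.swap 3 4, Equiv.Perm.mem_alternatingGroup.2 (by decide)⟩,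
    by decide, by decide, by decide, by decide, by decide, by decide, by decide, by decide, by decide,
    by decide, by decide⟩

section

variable {L : Type*} [Group L] [Finite L]

local notation "Q" => L ⧸ Subgroup.center L
local notation "pr" => QuotientGroup.mk' (Subgroup.center L)

/-- The alternating group of degree seven is not the central quotient. -/
theorem not_alt_seven (hp : commutator L = ⊤) (hca : ProperCA L) (S : Sylow 2 L) {a₀ b₀ : L}
    (ha₀ : a₀ ∈ (S : Subgroup L)) (hb₀ : b₀ ∈ (S : Subgroup L))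
    (hne₀ : pr a₀ * pr b₀ ≠ pr b₀ * pr a₀) (e : Q ≃* alternatingGroup (Fin 7)) : False := by
  classical
  obtain ⟨x, u, v, n, hx3, hu2, hv2, hxu, hxv, huv, hnx, hx1, hu1, hv1, huv1⟩ := alt_seven_data
  obtain ⟨U, hU⟩ := QuotientGroup.mk'_surjective (Subgroup.center L) (e.symm u)
  obtain ⟨V, hV⟩ := QuotientGroup.mk'_surjective (Subgroup.center L) (e.symm v)
  obtain ⟨N, hN⟩ := QuotientGroup.mk'_surjective (Subgroup.center L) (e.symm n)
  obtain ⟨X0, hX0⟩ := QuotientGroup.mk'_surjective (Subgroup.center L) (e.symm x)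
  have hord : ∀ {a : alternatingGroup (Fin 7)}, a ^ 2 = 1 → a ≠ 1 → orderOf (e.symm a) = 2 :=
    fun h1 h2 => by rw [MulEquiv.orderOf_eq, orderOf_eq_prime h1 h2]
  have hUV := lifts_not_commute hp hca S ha₀ hb₀ hne₀ (U := U) (V := V)
    (by rw [hU]; exact hord hu2 hu1) (by rw [hV]; exact hord hv2 hv1)
    (by rw [hU, hV]; exact fun h => huv1 (e.symm.injective h))
    (by rw [hU, hV, ← map_mul, ← map_mul, huv])
  -- an odd order lift of a power of `x`
  set a := (orderOf X0).factorization 2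
  set X := X0 ^ 2 ^ a with hXd
  have hXo : Odd (orderOf X) := by
    rw [hXd, orderOf_pow_of_dvd (by positivity) (Nat.ordProj_dvd _ _)]
    exact Nat.odd_iff.2 (Nat.two_dvd_ne_zero.1 (Nat.not_dvd_ordCompl Nat.prime_two (orderOf_pos X0).ne'))
  have hprX : pr X = e.symm x ^ 2 ^ a := by rw [hXd, map_pow, hX0]
  have hsq : ∀ {W : L} {w : alternatingGroup (Fin 7)}, pr W = e.symm w → w ^ 2 = 1 →
      W * W ∈ Subgroup.center L := fun hW hw => (QuotientGroup.eq_one_iff _).1 (by
    show pr (_ * _) = 1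
    rw [map_mul, hW, ← map_mul, ← pow_two, hw, map_one])
  have hcomm : ∀ {W : L} {w : alternatingGroup (Fin 7)}, pr W = e.symm w → w ^ 2 = 1 → x * w = w * x →
      X * W = W * X := fun {W w} hW hw hxw => by
    refine mem_centralizer_singleton_iff.1 (mem_centralizer_of_odd (hsq hW hw) ?_ hXo)
    refine mem_centralizer_singleton_iff.2 ?_
    rw [hprX, hW]
    exact (Commute.pow_left (show Commute (e.symm x) (e.symm w) by
      show _ * _ = _ * _; rw [← map_mul, ← map_mul, hxw]) _).eq
  have hXU := hcomm hU hu2 hxu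
  have hXV := hcomm hV hv2 hxv
  set Y := Subgroup.zpowers (pr X) with hY
  set H := (Subgroup.normalizer (Y : Set Q)).comap pr
  have hX1 : pr X ≠ 1 := by
    rw [hprX, ← map_pow]
    intro h
    rw [MulEquiv.map_eq_one_iff] at h
    exact hx1 (orderOf_eq_one_iff.1 (Nat.eq_one_of_dvd_coprimes
      (Nat.Coprime.pow_left a (by norm_num : Nat.Coprime 2 3))
      (orderOf_dvd_of_pow_eq_one h) (orderOf_dvd_of_pow_eq_one hx3)))
  have hH : H ≠ ⊤ := fun h => by
    haveI : Y.Normal := Subgroup.normalizer_eq_top_iff.1 (by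
      rw [← Subgroup.map_comap_eq_self_of_surjective (QuotientGroup.mk'_surjective (Subgroup.center L))
        (Subgroup.normalizer (Y : Set Q)),
        show (Subgroup.normalizer (Y : Set Q)).comap pr = ⊤ from h,
        Subgroup.map_top_of_surjective _ (QuotientGroup.mk'_surjective _)])
    haveI : Group.IsSolvable Y :=
      Group.isSolvable_of_comm fun a b => IsMulCommutative.is_comm.comm a b
    exact hX1 (mem_bot.1 (eq_bot_of_solvable_normal hp hca Y ▸ mem_zpowers (pr X)))
  have hmem : ∀ W : L, pr W * pr X * (pr W)⁻¹ ∈ Y → W ∈ H := fun W hW =>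
    mem_normalizer_of_forall fun y hy => by
      obtain ⟨i, rfl⟩ := mem_zpowers_iff.1 hy
      rw [← conj_zpow]
      exact zpow_mem hW i
  have hfix : ∀ W : L, X * W = W * X → W ∈ H := fun W hW => hmem W (by
    rw [← map_mul, ← hW, map_mul, mul_inv_cancel_right]; exact mem_zpowers _)
  have hninv : pr N * pr X * (pr N)⁻¹ = (pr X)⁻¹ := by
    rw [hprX, hN, ← map_inv, ← map_pow, ← map_mul, ← map_mul, ← conj_pow, hnx, inv_pow, map_inv]
  have hle := le_centralizer_of_pair hca hH (hfix X rfl) (hfix U hXU) (hfix V hXV) hXU.symm hXV.symm hUV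
    (hmem N (by rw [hninv]; exact inv_mem (mem_zpowers _)))
  have h1 : pr N * pr X * (pr N)⁻¹ = pr X := by
    rw [← map_mul, mem_centralizer_singleton_iff.1 hle, map_mul, mul_inv_cancel_right]
  rw [hninv] at h1
  have hodd : Odd (orderOf (pr X)) := hXo.of_dvd_nat (orderOf_map_dvd _ _)
  refine hX1 (orderOf_eq_one_iff.1 (Nat.eq_one_of_dvd_coprimes (Nat.coprime_two_right.2 hodd)
    dvd_rfl (orderOf_dvd_of_pow_eq_one ?_)))
  rw [pow_two]
  nth_rw 1 [← h1]
  exact inv_mul_cancel _

/-- **The structure theorem.** The central quotient of a nontrivial perfect group all of whose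
proper subgroups have abelian centralisers of noncentral elements is `PSL(2, q)`. -/
theorem quot_psl (hp : commutator L = ⊤) (hca : ProperCA L) (hL : ∃ g : L, g ≠ 1) :
    ∃ (F : Type) (_ : Field F) (_ : Fintype F),
      Nonempty (Q ≃* Matrix.ProjectiveSpecialLinearGroup (Fin 2) F) := by
  classical
  haveI : Fact (Nat.Prime 2) := ⟨Nat.prime_two⟩
  obtain ⟨S⟩ : Nonempty (Sylow 2 L) := inferInstance
  set P := qSylow S
  have hO := quot_oddCore_eq_bot hp hca
  have hZ := quot_center_eq_bot hp hca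
  have hPn : ¬ (P : Subgroup Q).Normal := fun hn => by
    haveI := hn
    haveI := P.isPGroup'.isNilpotent
    have h1 := eq_bot_of_solvable_normal hp hca (P : Subgroup Q)
    obtain ⟨g, hg⟩ := hL
    have hodd : Odd (Nat.card Q) := by
      rw [← Subgroup.index_bot, ← h1, Nat.odd_iff]
      exact Nat.two_dvd_ne_zero.1 P.not_dvd_index
    haveI : Group.IsSolvable Q := Cfsg.Agent.S0205.result hodd
    have h2 : ∀ x : L, x ∈ Subgroup.center L := fun x =>
      (QuotientGroup.eq_one_iff x).1 (subsingleton_of_perfect_solvable (quot_perfect hp) _)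
    exact hg (congrArg Subtype.val (hom_eq_one_of_perfect hp
      (MonoidHom.mk' (fun x => (⟨x, h2 x⟩ : Subgroup.center L)) fun _ _ => rfl)
      (fun a b => Subtype.ext (mem_center_iff.1 (h2 b) a)) g))
  by_cases hab : ∀ a ∈ (P : Subgroup Q), ∀ b ∈ (P : Subgroup Q), a * b = b * a
  · by_cases hr : ∃ E : Subgroup Q, E ≤ (P : Subgroup Q) ∧ (∀ e ∈ E, e * e = 1) ∧ 8 ≤ Nat.card E
    · obtain ⟨K, iF, jF, -, he⟩ := psl_of_rank hp hca S hab hr
      exact ⟨K, iF, jF, he⟩
    push Not at hr
    obtain ⟨h4, hsq⟩ := klein_of_rank_le_two P hO hZ hPn hab hr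
    haveI : Nontrivial (P : Subgroup Q) :=
      Finite.one_lt_card_iff_nontrivial.1 (by rw [h4]; norm_num)
    haveI : IsKleinFour (P : Subgroup Q) := ⟨h4, by
      refine (Nat.prime_two.eq_one_or_self_of_dvd _ (Monoid.exponent_dvd_of_forall_pow_eq_one fun x =>
        Subtype.ext (by rw [SubmonoidClass.coe_pow, pow_two]; exact hsq x x.2))).resolve_left fun h1 => ?_
      exact not_subsingleton _ (Monoid.exp_eq_one_iff.1 h1)⟩
    rcases dihedralPerfect (quot_perfect hp) ⟨P, 2, le_rfl, IsKleinFour.nonempty_mulEquiv⟩ hO with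
      ⟨F, iF, jF, -, -, he⟩ | ⟨⟨e⟩⟩
    · exact ⟨F, iF, jF, he⟩
    · exfalso
      have h8 : 2 ^ 3 ∣ Nat.card Q := by
        rw [Nat.card_congr e.toEquiv, nat_card_alternatingGroup, Nat.card_eq_fintype_card, Fintype.card_fin]
        decide
      have := P.pow_dvd_card_of_pow_dvd_card h8
      rw [h4] at this
      exact absurd (Nat.le_of_dvd (by norm_num) this) (by norm_num)
  · push Not at hab
    obtain ⟨_, ⟨a₀, ha₀, rfl⟩, _, ⟨b₀, hb₀, rfl⟩, hne⟩ := hab
    rcases dihedralPerfect (quot_perfect hp)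
      (hasDihedralSylow_of_nonabelian hp hca S ha₀ hb₀ hne) hO with ⟨F, iF, jF, -, -, he⟩ | ⟨⟨e⟩⟩
    · exact ⟨F, iF, jF, he⟩
    · exact (not_alt_seven hp hca S ha₀ hb₀ hne e).elim

end

end CfsgLib.MinimalNonCA
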